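import Mathlib.Algebra.Category.Grp.Preadditive
import Mathlib.CategoryTheory.Preadditive.AdditiveFunctor
import Mathlib.CategoryTheory.Preadditive.Biproducts

/-!
# A natural bijection between additive functors to abelian groups is additive (helper36)
-/

set_option autoImplicit false
universe w v u
open CategoryTheory CategoryTheory.Limits

namespace Groth.Agent.Lib.Helper36.LH

variable {A : Type u} [Category.{v} A] [Preadditive A] [HasBinaryBiproducts A]
  (F F' : A ⥤ AddCommGrpCat.{w}) [F.Additive] [F'.Additive]

theorem map_add_of_natural (τ : ∀ X, F.obj X → F'.obj X)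
    (hτ : ∀ {X X' : A} (f : X ⟶ X') (x : F.obj X), τ X' (F.map f x) = F'.map f (τ X x))
    (X : A) (x y : F.obj X) : τ X (x + y) = τ X x + τ X y := by
  let z : F.obj (X ⊞ X) := F.map biprod.inl x + F.map biprod.inr y
  have hz1 : F.map biprod.fst z = x := by
    simp only [z, map_add, ← ConcreteCategory.comp_apply, ← F.map_comp, biprod.inl_fst,
      biprod.inr_fst, F.map_id, F.map_zero]
    simp
  have hz2 : F.map biprod.snd z = y := by
    simp only [z, map_add, ← ConcreteCategory.comp_apply, ← F.map_comp, biprod.inl_snd,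
      biprod.inr_snd, F.map_id, F.map_zero]
    simp
  have hz3 : F.map (biprod.desc (𝟙 X) (𝟙 X)) z = x + y := by
    simp only [z, map_add, ← ConcreteCategory.comp_apply, ← F.map_comp, biprod.inl_desc,
      biprod.inr_desc, F.map_id]
    simp
  have hw : ∀ w : F'.obj (X ⊞ X), F'.map (biprod.desc (𝟙 X) (𝟙 X)) w =
      F'.map biprod.fst w + F'.map biprod.snd w := by
    intro w
    have h1 : (biprod.desc (𝟙 X) (𝟙 X) : X ⊞ X ⟶ X) = biprod.fst + biprod.snd := by
      ext <;> simp
    rw [h1, F'.map_add]
    rfl
  rw [← hz3, hτ, hw, ← hτ, ← hτ, hz1, hz2]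

/-- a natural family of bijections between additive functors is a natural isomorphism -/
noncomputable def natIsoOfEquiv (e : ∀ X, F.obj X ≃ F'.obj X)
    (he : ∀ {X X' : A} (f : X ⟶ X') (x : F.obj X), e X' (F.map f x) = F'.map f (e X x)) :
    F ≅ F' :=
  NatIso.ofComponents (fun X => (AddEquiv.mk' (e X)
    (map_add_of_natural F F' (fun X => e X) he X)).toAddCommGrpIso) (by
    intro X X' f
    ext x
    exact he f x)

end Groth.Agent.Lib.Helper36.LH
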