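import Groth.Agent.Lib.Helper36.LH.HImg
import Mathlib.Algebra.Category.Grp.Adjunctions
import Mathlib.CategoryTheory.Adjunction.Whiskering
import Mathlib.CategoryTheory.Sites.LeftExact
import Mathlib.CategoryTheory.Preadditive.Injective.Basic

/-!
# The free abelian sheaf on a presheaf of sets; flasqueness of the pullback of an injective sheaf
along a local homeomorphism (helper36)
-/

set_option autoImplicit false
universe u
open CategoryTheory CategoryTheory.Limits TopologicalSpace Opposite

namespace Groth.Agent.Lib.Helper36.LH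

/-- the free abelian sheaf on a presheaf of sets -/
noncomputable def Lfun (S : TopCat.{u}) : ((Opens S)ᵒᵖ ⥤ Type u) ⥤ CohTop.Ab S :=
  (Functor.whiskeringRight _ _ _).obj AddCommGrpCat.free.{u} ⋙
    presheafToSheaf (Opens.grothendieckTopology S) AddCommGrpCat.{u}

/-- the underlying presheaf of sets of an abelian sheaf -/
noncomputable def Rfun (S : TopCat.{u}) : CohTop.Ab S ⥤ ((Opens S)ᵒᵖ ⥤ Type u) :=
  sheafToPresheaf _ _ ⋙ (Functor.whiskeringRight _ _ _).obj (forget AddCommGrpCat.{u})

/-- the adjunction -/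
noncomputable def adjL (S : TopCat.{u}) : Lfun S ⊣ Rfun S :=
  (AddCommGrpCat.adj.{u}.whiskerRight _).comp (sheafificationAdjunction _ _)

lemma free_map_mono {α β : Type u} (f : α ⟶ β) (hf : Function.Injective f) :
    Mono (AddCommGrpCat.free.{u}.map f) := by
  by_cases hα : Nonempty α
  · obtain ⟨r, hr⟩ := hf.hasLeftInverse
    have : f ≫ TypeCat.ofHom r = 𝟙 α := by
      ext x
      exact hr x
    have h2 : AddCommGrpCat.free.{u}.map f ≫ AddCommGrpCat.free.{u}.map (TypeCat.ofHom r) = 𝟙 _ := by
      rw [← CategoryTheory.Functor.map_comp, this, CategoryTheory.Functor.map_id]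
    exact mono_of_mono_fac h2
  · rw [not_nonempty_iff] at hα
    rw [AddCommGrpCat.mono_iff_injective]
    have : Subsingleton (FreeAbelianGroup α) := inferInstance
    intro x y _
    exact Subsingleton.elim (α := FreeAbelianGroup α) x y

lemma Lfun_map_mono {S : TopCat.{u}} {h' h : (Opens S)ᵒᵖ ⥤ Type u} (ι : h' ⟶ h)
    (hι : ∀ V, Function.Injective (ι.app V)) : Mono ((Lfun S).map ι) := by
  have h1 : Mono (((Functor.whiskeringRight (Opens S)ᵒᵖ _ _).obj AddCommGrpCat.free.{u}).map ι) := by
    have : ∀ V, Mono ((((Functor.whiskeringRight (Opens S)ᵒᵖ _ _).obj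
        AddCommGrpCat.free.{u}).map ι).app V) := fun V => free_map_mono _ (hι V)
    exact NatTrans.mono_of_mono_app _
  exact (presheafToSheaf (Opens.grothendieckTopology S) AddCommGrpCat.{u}).map_mono _

variable {Y S : TopCat.{u}} {g : Y ⟶ S} (hg : IsOpenMap g)
  (hB : ∀ (W : Opens Y) (y : Y), y ∈ W → ∃ W₁ : BOpens g W, y ∈ W₁.U)

/-- `rho` as an equivalence -/
noncomputable def rhoEquiv (G : CohTop.Ab S) (W : Opens Y) :
    (Fsh hg G).obj.obj (op W) ≃ Fam hg G W :=
  Equiv.ofBijective (rho hg G W) ⟨rho_injective hg hB G W, rho_surjective hg hB G W⟩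

/-- sections over `W` of the sheaf `Fsh G` as morphisms out of the free sheaf on `hImg W` -/
noncomputable def secEquiv (G : CohTop.Ab S) (W : Opens Y) :
    ((Lfun S).obj (hImg hg W) ⟶ G) ≃ (Fsh hg G).obj.obj (op W) :=
  ((adjL S).homEquiv (hImg hg W) G).trans
    ((famEquiv hg G W).symm.trans (rhoEquiv hg hB G W).symm)

lemma secEquiv_natural {G G' : CohTop.Ab S} (φ : G ⟶ G') (W : Opens Y)
    (α : (Lfun S).obj (hImg hg W) ⟶ G) :
    secEquiv hg hB G' W (α ≫ φ) = (FshMap hg φ).hom.app (op W) (secEquiv hg hB G W α) := by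
  apply (rhoEquiv hg hB G' W).injective
  change rho hg G' W (secEquiv hg hB G' W (α ≫ φ)) = rho hg G' W _
  rw [rho_natural]
  have e1 : ∀ (G : CohTop.Ab S) (β : (Lfun S).obj (hImg hg W) ⟶ G),
      rho hg G W (secEquiv hg hB G W β) =
        (famEquiv hg G W).symm ((adjL S).homEquiv (hImg hg W) G β) := fun G β =>
    (rhoEquiv hg hB G W).apply_symm_apply _
  rw [e1, e1]
  apply (famEquiv hg G' W).injective
  rw [Equiv.apply_symm_apply]
  change _ = famToNat hg G' W _
  rw [famToNat_map]
  change _ = (famEquiv hg G W) ((famEquiv hg G W).symm _) ≫ _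
  rw [Equiv.apply_symm_apply]
  exact (adjL S).homEquiv_naturality_right α φ

lemma secEquiv_res (G : CohTop.Ab S) {W W' : Opens Y} (h : W' ≤ W)
    (α : (Lfun S).obj (hImg hg W) ⟶ G) :
    secEquiv hg hB G W' ((Lfun S).map (hImgIncl hg h) ≫ α) =
      (Fsh hg G).obj.map (homOfLE h).op (secEquiv hg hB G W α) := by
  apply (rhoEquiv hg hB G W').injective
  change rho hg G W' (secEquiv hg hB G W' _) = rho hg G W' _
  rw [rho_res]
  have e1 : ∀ (W : Opens Y) (β : (Lfun S).obj (hImg hg W) ⟶ G),
      rho hg G W (secEquiv hg hB G W β) =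
        (famEquiv hg G W).symm ((adjL S).homEquiv (hImg hg W) G β) := fun W β =>
    (rhoEquiv hg hB G W).apply_symm_apply _
  rw [e1, e1]
  apply (famEquiv hg G W').injective
  rw [Equiv.apply_symm_apply]
  change _ = famToNat hg G W' _
  rw [famToNat_res]
  change _ = _ ≫ (famEquiv hg G W) ((famEquiv hg G W).symm _)
  rw [Equiv.apply_symm_apply]
  exact (adjL S).homEquiv_naturality_left (hImgIncl hg h) α

include hB in
theorem Fsh_map_surjective (G : CohTop.Ab S) [Injective G] {W W' : Opens Y} (h : W' ≤ W) :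
    Function.Surjective ((Fsh hg G).obj.map (homOfLE h).op) := by
  intro s'
  have := Lfun_map_mono (hImgIncl hg h) (hImgIncl_injective hg h)
  let α' := (secEquiv hg hB G W').symm s'
  let α := Injective.factorThru α' ((Lfun S).map (hImgIncl hg h))
  refine ⟨secEquiv hg hB G W α, ?_⟩
  rw [← secEquiv_res, Injective.comp_factorThru]
  exact (secEquiv hg hB G W').apply_symm_apply s'

include hB in
theorem Fsh_isFlasque (G : CohTop.Ab S) [Injective G] : TopCat.Sheaf.IsFlasque (Fsh hg G) where
  epi {U V} i := by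
    rw [AddCommGrpCat.epi_iff_surjective]
    have : i = (homOfLE i.unop.le).op := Subsingleton.elim _ _
    rw [this]
    exact Fsh_map_surjective hg hB G i.unop.le

end Groth.Agent.Lib.Helper36.LH
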