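import Mathlib.AlgebraicTopology.ExtraDegeneracy
import Mathlib.AlgebraicTopology.AlternatingFaceMapComplex

/-!
# The Čech nerve of `T → pt` in types, concretely, and its extra degeneracy (helper36)
-/

set_option autoImplicit false
universe u
open CategoryTheory CategoryTheory.Limits Opposite Simplicial

namespace Groth.Agent.Lib.Helper36.LH

/-- the Čech nerve of `T → pt`: `[n] ↦ (Fin (n+1) → T)` -/
def cechT (T : Type u) : SimplicialObject (Type u) where
  obj Δ := (Fin (Δ.unop.len + 1) → T)
  map θ := TypeCat.ofHom (fun x => x ∘ θ.unop.toOrderHom)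
  map_id Δ := by
    ext x
    rfl
  map_comp θ θ' := by
    ext x
    rfl

/-- functoriality of the Čech nerve -/
def cechTFunctor : Type u ⥤ SimplicialObject (Type u) where
  obj T := cechT T
  map f := { app := fun Δ => TypeCat.ofHom (fun x => f ∘ x) }

/-- the augmented Čech nerve -/
def cechTAug (T : Type u) : SimplicialObject.Augmented (Type u) where
  left := cechT T
  right := PUnit
  hom := { app := fun _ => TypeCat.ofHom (fun _ => PUnit.unit) }

/-- the extra degeneracy given by a point -/
def cechTExtra (T : Type u) (x₀ : T) : SimplicialObject.Augmented.ExtraDegeneracy (cechTAug T) where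
  s' := TypeCat.ofHom (fun _ _ => x₀)
  s n := TypeCat.ofHom (fun x => (Fin.cons x₀ x : Fin (n + 2) → T))
  s'_comp_ε := by
    ext x
    rfl
  s₀_comp_δ₁ := by
    ext x
    funext j
    fin_cases j
    rfl
  s_comp_δ₀ n := by
    ext x
    funext j
    rfl
  s_comp_δ n i := by
    ext (x : Fin (n + 2) → T)
    funext (j : Fin (n + 2))
    change (Fin.cons x₀ x : Fin (n + 3) → T) (i.succ.succAbove j) =
      (Fin.cons x₀ (fun k => x (i.succAbove k)) : Fin (n + 2) → T) j
    cases j using Fin.cases with
    | zero => rw [Fin.succ_succAbove_zero, Fin.cons_zero, Fin.cons_zero]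
    | succ k => rw [Fin.succ_succAbove_succ, Fin.cons_succ, Fin.cons_succ]
  s_comp_σ n i := by
    ext (x : Fin (n + 1) → T)
    funext (j : Fin (n + 3))
    change (Fin.cons x₀ x : Fin (n + 2) → T) (i.succ.predAbove j) =
      (Fin.cons x₀ (fun k => x (i.predAbove k)) : Fin (n + 3) → T) j
    cases j using Fin.cases with
    | zero => rw [Fin.predAbove_right_zero, Fin.cons_zero, Fin.cons_zero]
    | succ k => rw [Fin.succ_predAbove_succ, Fin.cons_succ, Fin.cons_succ]

end Groth.Agent.Lib.Helper36.LH
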