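import Groth.Agent.Lib.Helper36.LH.Adj
import Groth.Agent.Lib.Helper36.LH.AddNat
import Groth.Agent.Lib.Helper33.ExtDelta
import Groth.Agent.Lib.Lead.ExtDelta
import Groth.Agent.S0453
import Groth.Agent.Lib.Helper36.DescSS.TopRetract

/-!
# Cohomology of the pullback along a local homeomorphism as an Ext group (helper36)

`H^q(Y, g^* F) ≅ Ext^q(ℤ[h_Y]^#, F)` for a local homeomorphism `g : Y ⟶ S`.
-/

set_option autoImplicit false
universe u
open CategoryTheory CategoryTheory.Limits TopologicalSpace Opposite Abelian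

namespace Groth.Agent.Lib.Helper36.LH

open Groth.Agent.Lib.Helper33.ExtDelta Groth.Agent.Lib.Lead.ExtDelta

variable {Y S : TopCat.{u}} {g : Y ⟶ S} (hg : IsOpenMap g)

/-- the naive pullback followed by sheafification -/
noncomputable def pullN : CohTop.Ab S ⥤ CohTop.Ab Y :=
  sheafToPresheaf _ _ ⋙ (Functor.whiskeringLeft _ _ _).obj hg.functor.op ⋙
    presheafToSheaf (Opens.grothendieckTopology Y) AddCommGrpCat.{u}

/-- the pullback is the naive pullback followed by sheafification -/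
noncomputable def pullIso : CohTop.pull g ≅ pullN hg :=
  TopCat.Sheaf.pullbackIso AddCommGrpCat.{u} g ≪≫
    Functor.isoWhiskerLeft (sheafToPresheaf _ _)
      (Functor.isoWhiskerRight hg.pullbackIso
        (presheafToSheaf (Opens.grothendieckTopology Y) AddCommGrpCat.{u}))

noncomputable instance : PreservesFiniteLimits (pullN hg) :=
  preservesFiniteLimits_of_natIso (pullIso hg)

noncomputable instance : PreservesFiniteColimits (pullN hg) :=
  preservesFiniteColimits_of_natIso (pullIso hg)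

instance : (pullN hg).Additive := Functor.additive_of_iso (pullIso hg)

/-- the constant sheaf `ℤ` -/
noncomputable abbrev ZZ (Y : TopCat.{u}) : CohTop.Ab Y :=
  (constantSheaf (Opens.grothendieckTopology Y) AddCommGrpCat.{u}).obj (AddCommGrpCat.of (ULift ℤ))

/-- `F ↦ H^•(Y, g^* F)` as a delta functor -/
noncomputable def TY : DeltaF.CohDeltaFunctor (CohTop.Ab S) AddCommGrpCat.{u} ℕ :=
  precompExact (pullN hg) (extDelta.{u} (ZZ Y))

variable (hB : ∀ (W : Opens Y) (y : Y), y ∈ W → ∃ W₁ : BOpens g W, y ∈ W₁.U)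

include hB in
lemma TY_isEffaceable : (TY hg).IsEffaceable := by
  intro n X
  refine ⟨Injective.under X, Injective.ι X, inferInstance, ?_⟩
  have hz : IsZero (((TY hg).F (n + 1)).obj (Injective.under X)) := by
    have := Fsh_isFlasque hg hB (Injective.under X)
    have : Subsingleton (CohTop.H (Fsh hg (Injective.under X)) (n + 1)) :=
      Groth.Agent.S0453.result _ n
    exact AddCommGrpCat.isZero_of_subsingleton
      (AddCommGrpCat.of (CohTop.H (Fsh hg (Injective.under X)) (n + 1)))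
  exact hz.eq_of_tgt _ _

/-- the free abelian sheaf on the presheaf of local sections -/
noncomputable abbrev LY : CohTop.Ab S := (Lfun S).obj (hImg hg ⊤)

/-- degree zero comparison -/
noncomputable def e0 (G : CohTop.Ab S) :
    ((TY hg).F 0).obj G ≃ ((extDelta.{u} (LY hg)).F 0).obj G :=
  (Sheaf.H.equiv₀ (Fsh hg G) isTerminalTop).toEquiv.trans
    ((secEquiv hg hB G ⊤).symm.trans Ext.addEquiv₀.symm.toEquiv)

lemma e0_natural {G G' : CohTop.Ab S} (φ : G ⟶ G') (x : ((TY hg).F 0).obj G) :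
    e0 hg hB G' (((TY hg).F 0).map φ x) = ((extDelta.{u} (LY hg)).F 0).map φ (e0 hg hB G x) := by
  set s := Sheaf.H.equiv₀ (Fsh hg G) isTerminalTop x with hs
  have h1 : Sheaf.H.equiv₀ (Fsh hg G') isTerminalTop (((TY hg).F 0).map φ x) =
      (FshMap hg φ).hom.app (op ⊤) s :=
    (Sheaf.H.equiv₀_naturality isTerminalTop (FshMap hg φ) x).symm
  have h2 : (secEquiv hg hB G' ⊤).symm ((FshMap hg φ).hom.app (op ⊤) s) =
      (secEquiv hg hB G ⊤).symm s ≫ φ := by
    rw [Equiv.symm_apply_eq, secEquiv_natural, Equiv.apply_symm_apply]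
  change Ext.addEquiv₀.symm ((secEquiv hg hB G' ⊤).symm
    (Sheaf.H.equiv₀ (Fsh hg G') isTerminalTop (((TY hg).F 0).map φ x))) = _
  rw [h1, h2]
  change Ext.mk₀ _ = (Ext.mk₀ _).comp (Ext.mk₀ φ) (add_zero 0)
  rw [Ext.mk₀_comp_mk₀]
  rfl

/-- the degree zero natural isomorphism -/
noncomputable def e0Iso : (TY hg).F 0 ≅ (extDelta.{u} (LY hg)).F 0 :=
  natIsoOfEquiv _ _ (e0 hg hB) (e0_natural hg hB)

include hB in
/-- `Ext^q(ℤ[h_Y]^#, -) ≅ H^q(Y, (W ↦ -(gW))^#)` -/
theorem nonempty_TY_iso (n : ℕ) :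
    Nonempty ((TY hg).F n ≅ (extDelta.{u} (LY hg)).F n) := by
  have : EnoughInjectives (CohTop.Ab S) := inferInstance
  exact nonempty_iso_of_isUniversal (TY hg) (extDelta.{u} (LY hg))
    (Groth.Agent.S6773.result _ (TY_isEffaceable hg hB)) (extDelta_isUniversal _) (e0Iso hg hB) n

include hB in
/-- `H^q(Y, g^* F) ≅ Ext^q(ℤ[h_Y]^#, F)` -/
theorem nonempty_H_pull_iso (F : CohTop.Ab S) (n : ℕ) :
    Nonempty (AddCommGrpCat.of (CohTop.H ((CohTop.pull g).obj F) n) ≅
      AddCommGrpCat.of (Ext.{u} (LY hg) F n)) := by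
  obtain ⟨e⟩ := nonempty_TY_iso hg hB n
  refine ⟨?_ ≪≫ e.app F⟩
  exact ((extFunctor.{u} n).obj (op (ZZ Y))).mapIso ((pullIso hg).app F)

end Groth.Agent.Lib.Helper36.LH
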