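import Groth.Prelude.Def_DeltaF
import Mathlib.Algebra.Homology.DerivedCategory.Ext.ExactSequences
import Mathlib.Algebra.Homology.ShortComplex.ShortExact

/-!
# `Ext^•(-, Y)` as a delta-functor on the opposite category (helper36)
-/

set_option autoImplicit false
universe w v u
open CategoryTheory CategoryTheory.Limits Opposite Abelian

namespace Groth.Agent.Lib.Helper36.LH

variable {C : Type u} [Category.{v} C] [Abelian C] [HasExt.{w} C] (Y : C)

/-- `Ext^•(-, Y)` as a cohomological delta-functor on `Cᵒᵖ` -/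
noncomputable def extOpDelta : DeltaF.CohDeltaFunctor Cᵒᵖ AddCommGrpCat.{w} ℕ where
  F n := (extFunctor.{w} n).flip.obj Y
  additive n := by
    constructor
    intro X X' f f'
    ext x
    change (Ext.mk₀ (f + f').unop).comp x (zero_add n) =
      (Ext.mk₀ f.unop).comp x (zero_add n) + (Ext.mk₀ f'.unop).comp x (zero_add n)
    rw [unop_add, Ext.mk₀_add, Ext.add_comp]
  δ S hS n₀ n₁ h := AddCommGrpCat.ofHom (hS.unop.extClass.precomp Y (by omega : 1 + n₀ = n₁))
  δ_natural {S S'} hS hS' φ n₀ n₁ h := by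
    ext (x : Ext (unop S.X₃) Y n₀)
    have h' : 1 + n₀ = n₁ := by omega
    change hS'.unop.extClass.comp ((Ext.mk₀ φ.τ₃.unop).comp x (zero_add n₀)) h' =
      (Ext.mk₀ φ.τ₁.unop).comp (hS.unop.extClass.comp x h') (zero_add n₁)
    have hnat : hS'.unop.extClass.comp (Ext.mk₀ φ.τ₃.unop) (add_zero 1) =
        (Ext.mk₀ φ.τ₁.unop).comp hS.unop.extClass (zero_add 1) :=
      ShortComplex.ShortExact.extClass_naturality hS'.unop hS.unop (ShortComplex.unopMap φ)
    exact (Ext.comp_assoc_of_second_deg_zero hS'.unop.extClass (Ext.mk₀ φ.τ₃.unop) x h').symm.trans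
      ((congrArg (fun t => t.comp x h') hnat).trans
        (Ext.comp_assoc (Ext.mk₀ φ.τ₁.unop) hS.unop.extClass x (zero_add 1) h' (by omega)))
  exact₂ S hS n := Ext.contravariant_sequence_exact₂' hS.unop Y n
  comp_δ S hS n₀ n₁ h := by
    ext (x : Ext (unop S.X₂) Y n₀)
    have h' : 1 + n₀ = n₁ := by omega
    change hS.unop.extClass.comp ((Ext.mk₀ S.g.unop).comp x (zero_add n₀)) h' = 0
    have : hS.unop.extClass.comp (Ext.mk₀ S.g.unop) (add_zero 1) = 0 := hS.unop.extClass_comp
    exact (Ext.comp_assoc_of_second_deg_zero hS.unop.extClass (Ext.mk₀ S.g.unop) x h').symm.trans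
      ((congrArg (fun t => t.comp x h') this).trans (Ext.zero_comp _ _ _ _ _))
  exact₃ S hS n₀ n₁ h := Ext.contravariant_sequence_exact₁' hS.unop Y n₀ n₁ (by omega)
  δ_comp S hS n₀ n₁ h := by
    ext (x : Ext (unop S.X₃) Y n₀)
    have h' : 1 + n₀ = n₁ := by omega
    change (Ext.mk₀ S.f.unop).comp (hS.unop.extClass.comp x h') (zero_add n₁) = 0
    have : (Ext.mk₀ S.f.unop).comp hS.unop.extClass (zero_add 1) = 0 := hS.unop.comp_extClass
    exact (Ext.comp_assoc (Ext.mk₀ S.f.unop) hS.unop.extClass x (zero_add 1) h'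
      (by omega)).symm.trans ((congrArg (fun t => t.comp x h') this).trans (Ext.zero_comp _ _ _ _ _))
  exact₁ S hS n₀ n₁ h := Ext.contravariant_sequence_exact₃' hS.unop Y n₀ n₁ (by omega)

lemma extOpDelta_zeroMono : (extOpDelta.{w} Y).ZeroMono := by
  intro S hS
  have : Epi S.f.unop := by
    have := hS.mono_f
    infer_instance
  exact Ext.mono_precomp_mk₀_of_epi Y S.f.unop

end Groth.Agent.Lib.Helper36.LH
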