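import Groth.Prelude.Def_CohTop
import Groth.Agent.Lib.Helper5.ExtByZero
import Mathlib.Topology.IsLocalHomeomorph

/-!
# Naive pullback along an open map: sheafification is bijective over opens on which the map is
injective (helper36)
-/

set_option autoImplicit false
universe u
open CategoryTheory CategoryTheory.Limits TopologicalSpace Opposite

namespace Groth.Agent.Lib.Helper36.LH

variable {Y S : TopCat.{u}} {g : Y ⟶ S} (hg : IsOpenMap g)

/-- the naive presheaf pullback `W ↦ G(g W)` -/
abbrev naive (G : CohTop.Ab S) : (Opens Y)ᵒᵖ ⥤ AddCommGrpCat.{u} := hg.functor.op ⋙ G.obj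

/-- the restriction of `g` to an open, as a morphism of `TopCat` -/
abbrev kg (g : Y ⟶ S) (W : Opens Y) : TopCat.of W ⟶ S :=
  TopCat.ofHom ⟨Subtype.val, continuous_subtype_val⟩ ≫ g

include hg in
lemma isOpenEmbedding_restrict (W : Opens Y) (hW : Set.InjOn g W) :
    Topology.IsOpenEmbedding (kg g W) := by
  refine Topology.IsOpenEmbedding.of_continuous_injective_isOpenMap
    (kg g W).hom.continuous ?_ ?_
  · intro a b hab
    exact Subtype.ext (hW a.2 b.2 hab)
  · exact IsOpenMap.comp (g := g) hg W.isOpenEmbedding.isOpenMap

lemma naive_restrict_isSheaf (G : CohTop.Ab S) (W : Opens Y) (hW : Set.InjOn g W) :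
    Presheaf.IsSheaf (Opens.grothendieckTopology (TopCat.of W))
      ((Helper5.jU W).op ⋙ naive hg G) := by
  have hemb := isOpenEmbedding_restrict hg W hW
  have hc := hemb.functor_isContinuous
  let e : hemb.isOpenMap.functor ≅ Helper5.jU W ⋙ hg.functor :=
    NatIso.ofComponents (fun W' => eqToIso (by
      apply Opens.ext
      simp only [IsOpenMap.coe_functor_obj, Functor.comp_obj]
      rw [← Set.image_comp]
      rfl)) (fun _ => Subsingleton.elim _ _)
  have hc' : (Helper5.jU W ⋙ hg.functor).IsContinuous (Opens.grothendieckTopology (TopCat.of W))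
      (Opens.grothendieckTopology S) := Functor.isContinuous_of_iso e _ _
  exact Functor.op_comp_isSheaf (Helper5.jU W ⋙ hg.functor) _ _ G

lemma isIso_toSheafify_app (G : CohTop.Ab S) (W : Opens Y) (hW : Set.InjOn g W)
    (W' : Opens (TopCat.of W)) :
    IsIso ((toSheafify (Opens.grothendieckTopology Y) (naive hg G)).app
      (op ((Helper5.jU W).obj W'))) := by
  have h1 := Functor.toSheafify_pullbackSheafificationCompatibility (G := Helper5.jU W)
    AddCommGrpCat.{u} (Opens.grothendieckTopology (TopCat.of W)) (Opens.grothendieckTopology Y)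
    (naive hg G)
  have h2 : IsIso (toSheafify (Opens.grothendieckTopology (TopCat.of W))
      ((Helper5.jU W).op ⋙ naive hg G)) :=
    isIso_toSheafify _ (naive_restrict_isSheaf hg G W hW)
  have h3 : IsIso (Functor.whiskerLeft (Helper5.jU W).op
      (toSheafify (Opens.grothendieckTopology Y) (naive hg G))) := by
    rw [← h1]
    have : IsIso (((Helper5.jU W).pushforwardContinuousSheafificationCompatibility AddCommGrpCat.{u}
        (Opens.grothendieckTopology (TopCat.of W)) (Opens.grothendieckTopology Y)).hom.app
          (naive hg G)).hom :=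
      (inferInstance : IsIso ((sheafToPresheaf _ _).map
        (((Helper5.jU W).pushforwardContinuousSheafificationCompatibility AddCommGrpCat.{u}
        (Opens.grothendieckTopology (TopCat.of W)) (Opens.grothendieckTopology Y)).hom.app
          (naive hg G))))
    exact IsIso.comp_isIso' h2 this
  exact (NatTrans.isIso_iff_isIso_app _).1 h3 (op W')

lemma isIso_toSheafify_app' (G : CohTop.Ab S) (W : Opens Y) (hW : Set.InjOn g W) :
    IsIso ((toSheafify (Opens.grothendieckTopology Y) (naive hg G)).app (op W)) := by
  have e : (Helper5.jU W).obj ⊤ = W := by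
    apply Opens.ext
    ext y
    constructor
    · rintro ⟨w, -, rfl⟩
      exact w.2
    · intro hy
      exact ⟨⟨y, hy⟩, trivial, rfl⟩
  have := isIso_toSheafify_app hg G W hW ⊤
  rwa [e] at this

end Groth.Agent.Lib.Helper36.LH
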