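import Groth.Agent.Lib.Helper36.LH.FactB
import Mathlib.Topology.Sheaves.SheafCondition.UniqueGluing

/-!
# Sections of the pullback along a local homeomorphism as compatible families (helper36)
-/

set_option autoImplicit false
universe u
open CategoryTheory CategoryTheory.Limits TopologicalSpace Opposite

namespace Groth.Agent.Lib.Helper36.LH

variable {Y S : TopCat.{u}} {g : Y ⟶ S} (hg : IsOpenMap g)

/-- opens below `W` on which `g` is injective -/
structure BOpens (g : Y ⟶ S) (W : Opens Y) : Type u where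
  U : Opens Y
  le : U ≤ W
  inj : Set.InjOn g U

/-- reindexing -/
def BOpens.restrict {W W' : Opens Y} (h : W' ≤ W) (W₁ : BOpens g W') : BOpens g W :=
  ⟨W₁.U, W₁.le.trans h, W₁.inj⟩

/-- intersection -/
def BOpens.inf {W : Opens Y} (W₁ W₂ : BOpens g W) : BOpens g W :=
  ⟨W₁.U ⊓ W₂.U, inf_le_left.trans W₁.le, W₁.inj.mono inf_le_left⟩

/-- compatible families -/
def Fam (G : CohTop.Ab S) (W : Opens Y) : Type u :=
  {s : ∀ W₁ : BOpens g W, G.obj.obj (op (hg.functor.obj W₁.U)) //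
    ∀ (W₁ W₂ : BOpens g W) (h : W₂.U ≤ W₁.U),
      G.obj.map (hg.functor.map (homOfLE h)).op (s W₁) = s W₂}

/-- the sheaf `(W ↦ G(gW))^#` -/
noncomputable abbrev Fsh (G : CohTop.Ab S) : CohTop.Ab Y :=
  (presheafToSheaf (Opens.grothendieckTopology Y) AddCommGrpCat.{u}).obj (naive hg G)

/-- the canonical map to the sheafification -/
noncomputable abbrev eta (G : CohTop.Ab S) : naive hg G ⟶ (Fsh hg G).obj := toSheafify _ _

/-- the inverse of `eta` over an open on which `g` is injective -/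
noncomputable def etaInv (G : CohTop.Ab S) (W₁ : Opens Y) (h : Set.InjOn g W₁) :
    (Fsh hg G).obj.obj (op W₁) ⟶ (naive hg G).obj (op W₁) :=
  haveI := isIso_toSheafify_app' hg G W₁ h
  inv ((eta hg G).app (op W₁))

@[reassoc (attr := simp)]
lemma eta_etaInv (G : CohTop.Ab S) (W₁ : Opens Y) (h : Set.InjOn g W₁) :
    (eta hg G).app (op W₁) ≫ etaInv hg G W₁ h = 𝟙 _ := by
  have := isIso_toSheafify_app' hg G W₁ h
  exact IsIso.hom_inv_id _

@[reassoc (attr := simp)]
lemma etaInv_eta (G : CohTop.Ab S) (W₁ : Opens Y) (h : Set.InjOn g W₁) :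
    etaInv hg G W₁ h ≫ (eta hg G).app (op W₁) = 𝟙 _ := by
  have := isIso_toSheafify_app' hg G W₁ h
  exact IsIso.inv_hom_id _

lemma etaInv_natural (G : CohTop.Ab S) (W₁ W₂ : Opens Y) (h₁ : Set.InjOn g W₁)
    (h₂ : Set.InjOn g W₂) (i : W₂ ⟶ W₁) :
    etaInv hg G W₁ h₁ ≫ (naive hg G).map i.op = (Fsh hg G).obj.map i.op ≫ etaInv hg G W₂ h₂ := by
  have := isIso_toSheafify_app' hg G W₁ h₁
  have := isIso_toSheafify_app' hg G W₂ h₂
  unfold etaInv
  rw [IsIso.inv_comp_eq, ← Category.assoc, IsIso.eq_comp_inv]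
  exact (eta hg G).naturality i.op

lemma etaInv_natural_apply (G : CohTop.Ab S) (W₁ W₂ : Opens Y) (h₁ : Set.InjOn g W₁)
    (h₂ : Set.InjOn g W₂) (i : W₂ ⟶ W₁) (x : (Fsh hg G).obj.obj (op W₁)) :
    (naive hg G).map i.op (etaInv hg G W₁ h₁ x) =
      etaInv hg G W₂ h₂ ((Fsh hg G).obj.map i.op x) := by
  have := ConcreteCategory.congr_hom (etaInv_natural hg G W₁ W₂ h₁ h₂ i) x
  simpa only [ConcreteCategory.comp_apply] using this

lemma eta_etaInv_apply (G : CohTop.Ab S) (W₁ : Opens Y) (h : Set.InjOn g W₁)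
    (x : (naive hg G).obj (op W₁)) :
    etaInv hg G W₁ h ((eta hg G).app (op W₁) x) = x := by
  rw [← ConcreteCategory.comp_apply, eta_etaInv]
  rfl

lemma etaInv_eta_apply (G : CohTop.Ab S) (W₁ : Opens Y) (h : Set.InjOn g W₁)
    (x : (Fsh hg G).obj.obj (op W₁)) :
    (eta hg G).app (op W₁) (etaInv hg G W₁ h x) = x := by
  rw [← ConcreteCategory.comp_apply, etaInv_eta]
  rfl

/-- sections of the sheafification give compatible families -/
noncomputable def rho (G : CohTop.Ab S) (W : Opens Y) (s : (Fsh hg G).obj.obj (op W)) :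
    Fam hg G W :=
  ⟨fun W₁ => etaInv hg G W₁.U W₁.inj ((Fsh hg G).obj.map (homOfLE W₁.le).op s), by
    intro W₁ W₂ h
    refine (etaInv_natural_apply hg G W₁.U W₂.U W₁.inj W₂.inj (homOfLE h) _).trans ?_
    congr 1
    rw [← ConcreteCategory.comp_apply, ← Functor.map_comp]
    rfl⟩

section Bij

variable (hB : ∀ (W : Opens Y) (y : Y), y ∈ W → ∃ W₁ : BOpens g W, y ∈ W₁.U)

include hB in
lemma le_iSup_bopens (W : Opens Y) : W ≤ ⨆ W₁ : BOpens g W, W₁.U := by
  intro y hy
  obtain ⟨W₁, h⟩ := hB W y hy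
  exact Opens.mem_iSup.2 ⟨W₁, h⟩

include hB in
lemma rho_injective (G : CohTop.Ab S) (W : Opens Y) : Function.Injective (rho hg G W) := by
  intro s s' h
  refine TopCat.Sheaf.eq_of_locally_eq' (Fsh hg G) (fun W₁ : BOpens g W => W₁.U) W
    (fun W₁ => homOfLE W₁.le) (le_iSup_bopens hB W) s s' ?_
  intro W₁
  have h1 : etaInv hg G W₁.U W₁.inj ((Fsh hg G).obj.map (homOfLE W₁.le).op s) =
      etaInv hg G W₁.U W₁.inj ((Fsh hg G).obj.map (homOfLE W₁.le).op s') :=
    congrArg (fun t => t.1 W₁) h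
  have h2 := congrArg ((eta hg G).app (op W₁.U)) h1
  rwa [etaInv_eta_apply, etaInv_eta_apply] at h2

include hB in
lemma rho_surjective (G : CohTop.Ab S) (W : Opens Y) : Function.Surjective (rho hg G W) := by
  intro t
  let sf : ∀ W₁ : BOpens g W, (Fsh hg G).obj.obj (op W₁.U) :=
    fun W₁ => (eta hg G).app (op W₁.U) (t.1 W₁)
  have hsf : ∀ (W₁ W₂ : BOpens g W) (h : W₂.U ≤ W₁.U),
      (Fsh hg G).obj.map (homOfLE h).op (sf W₁) = sf W₂ := by
    intro W₁ W₂ h
    have h1 := ConcreteCategory.congr_hom ((eta hg G).naturality (homOfLE h).op) (t.1 W₁)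
    rw [ConcreteCategory.comp_apply, ConcreteCategory.comp_apply] at h1
    refine h1.symm.trans ?_
    exact congrArg ((eta hg G).app (op W₂.U)) (t.2 W₁ W₂ h)
  have hcomp : TopCat.Presheaf.IsCompatible (Fsh hg G).1 (fun W₁ : BOpens g W => W₁.U) sf := by
    intro W₁ W₂
    have e1 := hsf W₁ (W₁.inf W₂) inf_le_left
    have e2 := hsf W₂ (W₁.inf W₂) inf_le_right
    exact e1.trans e2.symm
  obtain ⟨s, hs, -⟩ := TopCat.Sheaf.existsUnique_gluing' (Fsh hg G)
    (fun W₁ : BOpens g W => W₁.U) W (fun W₁ => homOfLE W₁.le) (le_iSup_bopens hB W) sf hcomp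
  refine ⟨s, Subtype.ext (funext fun W₁ => ?_)⟩
  change etaInv hg G W₁.U W₁.inj ((Fsh hg G).obj.map (homOfLE W₁.le).op s) = t.1 W₁
  rw [hs W₁]
  exact eta_etaInv_apply hg G W₁.U W₁.inj _

end Bij

/-- restriction of families -/
def Fam.res (G : CohTop.Ab S) {W W' : Opens Y} (h : W' ≤ W) (t : Fam hg G W) : Fam hg G W' :=
  ⟨fun W₁ => t.1 (W₁.restrict h), fun W₁ W₂ h' => t.2 (W₁.restrict h) (W₂.restrict h) h'⟩

lemma rho_res (G : CohTop.Ab S) {W W' : Opens Y} (h : W' ≤ W) (s : (Fsh hg G).obj.obj (op W)) :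
    rho hg G W' ((Fsh hg G).obj.map (homOfLE h).op s) = (rho hg G W s).res hg G h := by
  apply Subtype.ext
  funext W₁
  change etaInv hg G W₁.U W₁.inj ((Fsh hg G).obj.map (homOfLE W₁.le).op
    ((Fsh hg G).obj.map (homOfLE h).op s)) =
    etaInv hg G W₁.U W₁.inj ((Fsh hg G).obj.map (homOfLE (W₁.restrict h).le).op s)
  congr 1
  rw [← ConcreteCategory.comp_apply, ← Functor.map_comp]
  rfl

section NatG

variable {G G' : CohTop.Ab S} (φ : G ⟶ G')

/-- functoriality of `naive` -/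
abbrev naiveMap : naive hg G ⟶ naive hg G' := Functor.whiskerLeft hg.functor.op φ.hom

/-- functoriality of `Fsh` -/
noncomputable abbrev FshMap : Fsh hg G ⟶ Fsh hg G' :=
  (presheafToSheaf (Opens.grothendieckTopology Y) AddCommGrpCat.{u}).map (naiveMap hg φ)

lemma eta_naturalG : eta hg G ≫ (FshMap hg φ).hom = naiveMap hg φ ≫ eta hg G' :=
  (toSheafify_naturality _ _).symm

/-- functoriality of families -/
def Fam.map (W : Opens Y) (t : Fam hg G W) : Fam hg G' W :=
  ⟨fun W₁ => φ.hom.app (op (hg.functor.obj W₁.U)) (t.1 W₁), fun W₁ W₂ h => by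
    have h1 := ConcreteCategory.congr_hom (φ.hom.naturality (hg.functor.map (homOfLE h)).op) (t.1 W₁)
    rw [ConcreteCategory.comp_apply, ConcreteCategory.comp_apply] at h1
    rw [← h1, t.2 W₁ W₂ h]⟩

lemma rho_natural (W : Opens Y) (s : (Fsh hg G).obj.obj (op W)) :
    rho hg G' W ((FshMap hg φ).hom.app (op W) s) = (rho hg G W s).map hg φ W := by
  apply Subtype.ext
  funext W₁
  change etaInv hg G' W₁.U W₁.inj ((Fsh hg G').obj.map (homOfLE W₁.le).op
    ((FshMap hg φ).hom.app (op W) s)) =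
    φ.hom.app (op (hg.functor.obj W₁.U))
      (etaInv hg G W₁.U W₁.inj ((Fsh hg G).obj.map (homOfLE W₁.le).op s))
  set x := (Fsh hg G).obj.map (homOfLE W₁.le).op s with hx
  have h1 : (Fsh hg G').obj.map (homOfLE W₁.le).op ((FshMap hg φ).hom.app (op W) s) =
      (FshMap hg φ).hom.app (op W₁.U) x := by
    have := ConcreteCategory.congr_hom ((FshMap hg φ).hom.naturality (homOfLE W₁.le).op) s
    rw [ConcreteCategory.comp_apply, ConcreteCategory.comp_apply] at this
    exact this.symm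
  rw [h1]
  have h2 : x = (eta hg G).app (op W₁.U) (etaInv hg G W₁.U W₁.inj x) :=
    (etaInv_eta_apply hg G W₁.U W₁.inj x).symm
  conv_lhs => rw [h2]
  have h3 := ConcreteCategory.congr_hom
    (congrArg (fun t => t.app (op W₁.U)) (eta_naturalG hg φ)) (etaInv hg G W₁.U W₁.inj x)
  simp only [NatTrans.comp_app, ConcreteCategory.comp_apply] at h3
  rw [h3]
  exact eta_etaInv_apply hg G' W₁.U W₁.inj _

end NatG

end Groth.Agent.Lib.Helper36.LH
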