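import Groth.Agent.Lib.Helper36.LH.Fam

/-!
# The presheaf of (images of) local sections of an open map, and compatible families (helper36)
-/

set_option autoImplicit false
universe u
open CategoryTheory CategoryTheory.Limits TopologicalSpace Opposite

namespace Groth.Agent.Lib.Helper36.LH

variable {Y S : TopCat.{u}} {g : Y ⟶ S} (hg : IsOpenMap g)

lemma BOpens.ext' {W : Opens Y} {W₁ W₂ : BOpens g W} (h : W₁.U = W₂.U) : W₁ = W₂ := by
  cases W₁; cases W₂; cases h; rfl

/-- cut down a `BOpens` element to the preimage of an open of `S` -/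
def BOpens.cut {W : Opens Y} (W₁ : BOpens g W) (V : Opens S) : BOpens g W :=
  ⟨W₁.U ⊓ (Opens.map g).obj V, inf_le_left.trans W₁.le, W₁.inj.mono inf_le_left⟩

lemma image_cut {W : Opens Y} (W₁ : BOpens g W) (V V' : Opens S)
    (h : hg.functor.obj W₁.U = V) (h' : V' ≤ V) : hg.functor.obj (W₁.cut V').U = V' := by
  apply Opens.ext
  ext s
  constructor
  · rintro ⟨y, ⟨-, hy⟩, rfl⟩
    exact hy
  · intro hs
    have hs' : s ∈ hg.functor.obj W₁.U := by rw [h]; exact h' hs
    obtain ⟨y, hy, rfl⟩ := hs'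
    exact ⟨y, ⟨hy, hs⟩, rfl⟩

lemma cut_eq_of_le {W : Opens Y} (W₁ W₂ : BOpens g W) (h : W₂.U ≤ W₁.U) :
    W₁.cut (hg.functor.obj W₂.U) = W₂ := by
  apply BOpens.ext'
  apply Opens.ext
  ext y
  constructor
  · rintro ⟨hy1, ⟨y', hy', hyy'⟩⟩
    have : y' = y := W₁.inj (h hy') hy1 hyy'
    exact this ▸ hy'
  · intro hy
    exact ⟨h hy, ⟨y, hy, rfl⟩⟩

/-- the presheaf of sets on `S` of local sections of `g` with values in `W`, in image form -/
def hImg (W : Opens Y) : (Opens S)ᵒᵖ ⥤ Type u where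
  obj V := {W₁ : BOpens g W // hg.functor.obj W₁.U = V.unop}
  map {V V'} i := TypeCat.ofHom fun W₁ =>
    ⟨W₁.1.cut V'.unop, image_cut hg W₁.1 V.unop V'.unop W₁.2 i.unop.le⟩
  map_id V := by
    ext W₁
    apply BOpens.ext'
    apply Opens.ext
    ext y
    constructor
    · rintro ⟨hy, -⟩
      exact hy
    · intro hy
      refine ⟨hy, ?_⟩
      change g y ∈ V.unop
      rw [← W₁.2]
      exact ⟨y, hy, rfl⟩
  map_comp {V V' V''} i j := by
    ext W₁
    apply BOpens.ext'
    apply Opens.ext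
    ext y
    constructor
    · rintro ⟨hy, hy'⟩
      exact ⟨⟨hy, j.unop.le hy'⟩, hy'⟩
    · rintro ⟨⟨hy, -⟩, hy'⟩
      exact ⟨hy, hy'⟩

/-- the underlying presheaf of sets of an abelian sheaf -/
abbrev RG (G : CohTop.Ab S) : (Opens S)ᵒᵖ ⥤ Type u := G.obj ⋙ forget AddCommGrpCat.{u}

/-- a compatible family gives a natural transformation -/
def famToNat (G : CohTop.Ab S) (W : Opens Y) (t : Fam hg G W) : hImg hg W ⟶ RG G where
  app V := TypeCat.ofHom fun W₁ =>
    (G.obj.map (eqToHom (show V.unop = hg.functor.obj W₁.1.U from W₁.2.symm)).op (t.1 W₁.1) :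
      G.obj.obj V)
  naturality {V V'} i := by
    ext W₁
    change G.obj.map (eqToHom _).op (t.1 (W₁.1.cut V'.unop)) =
      G.obj.map i (G.obj.map (eqToHom _).op (t.1 W₁.1))
    rw [← t.2 W₁.1 (W₁.1.cut V'.unop) inf_le_left]
    rw [← ConcreteCategory.comp_apply, ← ConcreteCategory.comp_apply, ← Functor.map_comp,
      ← Functor.map_comp]
    rfl

/-- a natural transformation gives a compatible family -/
def natToFam (G : CohTop.Ab S) (W : Opens Y) (τ : hImg hg W ⟶ RG G) : Fam hg G W :=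
  ⟨fun W₁ => τ.app (op (hg.functor.obj W₁.U)) ⟨W₁, rfl⟩, fun W₁ W₂ h => by
    have h1 := ConcreteCategory.congr_hom (τ.naturality (hg.functor.map (homOfLE h)).op)
      (⟨W₁, rfl⟩ : (hImg hg W).obj (op (hg.functor.obj W₁.U)))
    rw [ConcreteCategory.comp_apply, ConcreteCategory.comp_apply] at h1
    refine h1.symm.trans ?_
    congr 1
    apply Subtype.ext
    exact cut_eq_of_le hg W₁ W₂ h⟩

lemma natToFam_famToNat (G : CohTop.Ab S) (W : Opens Y) (t : Fam hg G W) :
    natToFam hg G W (famToNat hg G W t) = t := by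
  apply Subtype.ext
  funext W₁
  change G.obj.map (eqToHom _).op (t.1 W₁) = t.1 W₁
  simp

lemma famToNat_natToFam (G : CohTop.Ab S) (W : Opens Y) (τ : hImg hg W ⟶ RG G) :
    famToNat hg G W (natToFam hg G W τ) = τ := by
  ext V W₁
  obtain ⟨W₁, h⟩ := W₁
  induction V using Opposite.rec with
  | _ V =>
    change hg.functor.obj W₁.U = V at h
    subst h
    change G.obj.map (eqToHom _).op (τ.app _ ⟨W₁, rfl⟩) = τ.app _ ⟨W₁, _⟩
    simp

/-- compatible families are natural transformations out of `hImg` -/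
def famEquiv (G : CohTop.Ab S) (W : Opens Y) : Fam hg G W ≃ (hImg hg W ⟶ RG G) where
  toFun := famToNat hg G W
  invFun := natToFam hg G W
  left_inv := natToFam_famToNat hg G W
  right_inv := famToNat_natToFam hg G W

lemma famToNat_map {G G' : CohTop.Ab S} (φ : G ⟶ G') (W : Opens Y) (t : Fam hg G W) :
    famToNat hg G' W (t.map hg φ W) =
      famToNat hg G W t ≫ Functor.whiskerRight φ.hom (forget AddCommGrpCat.{u}) := by
  ext V W₁
  change G'.obj.map (eqToHom _).op (φ.hom.app _ (t.1 W₁.1)) =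
    φ.hom.app V (G.obj.map (eqToHom _).op (t.1 W₁.1))
  have h1 := ConcreteCategory.congr_hom (φ.hom.naturality
    (eqToHom (show V.unop = hg.functor.obj W₁.1.U from W₁.2.symm)).op) (t.1 W₁.1)
  rw [ConcreteCategory.comp_apply, ConcreteCategory.comp_apply] at h1
  exact h1.symm

/-- the inclusion of sections with values in a smaller open -/
def hImgIncl {W W' : Opens Y} (h : W' ≤ W) : hImg hg W' ⟶ hImg hg W where
  app V := TypeCat.ofHom fun W₁ => ⟨W₁.1.restrict h, W₁.2⟩
  naturality {V V'} i := by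
    ext W₁
    apply Subtype.ext
    apply BOpens.ext'
    rfl

lemma hImgIncl_injective {W W' : Opens Y} (h : W' ≤ W) (V : (Opens S)ᵒᵖ) :
    Function.Injective ((hImgIncl hg h).app V) := by
  intro W₁ W₂ e
  apply Subtype.ext
  apply BOpens.ext'
  exact congrArg (fun t => t.1.U) e

lemma famToNat_res (G : CohTop.Ab S) {W W' : Opens Y} (h : W' ≤ W) (t : Fam hg G W) :
    famToNat hg G W' (t.res hg G h) = hImgIncl hg h ≫ famToNat hg G W t := by
  ext V W₁
  rfl

end Groth.Agent.Lib.Helper36.LH
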