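import Groth.Prelude.Def_CohTop
import Mathlib.CategoryTheory.Sites.LocallyBijective
import Mathlib.CategoryTheory.Sites.Abelian
import Mathlib.Algebra.Homology.ShortComplex.PreservesHomology
import Mathlib.Algebra.Homology.ShortComplex.ExactFunctor
import Mathlib.Algebra.Homology.HomologicalComplexAbelian
import Mathlib.Algebra.Category.Grp.Abelian

/-!
# Locally exact complexes of presheaves sheafify to exact complexes (helper36)
-/

set_option autoImplicit false
universe u
open CategoryTheory CategoryTheory.Limits TopologicalSpace Opposite ZeroObject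

namespace Groth.Agent.Lib.Helper36.LH

variable {S : TopCat.{u}}

/-- a family of opens which covers `S` and is closed under passing to smaller opens -/
structure IsCovBase (𝒱 : Set (Opens S)) : Prop where
  cov : ∀ s : S, ∃ V ∈ 𝒱, s ∈ V
  down : ∀ V ∈ 𝒱, ∀ V' : Opens S, V' ≤ V → V' ∈ 𝒱

lemma isZero_sheafify_of_locally_zero {𝒱 : Set (Opens S)} (h𝒱 : IsCovBase 𝒱)
    (M : (Opens S)ᵒᵖ ⥤ AddCommGrpCat.{u}) (hM : ∀ V ∈ 𝒱, IsZero (M.obj (op V))) :
    IsZero ((presheafToSheaf (Opens.grothendieckTopology S) AddCommGrpCat.{u}).obj M) := by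
  let J := Opens.grothendieckTopology S
  let Z : (Opens S)ᵒᵖ ⥤ AddCommGrpCat.{u} := 0
  have hZ : IsZero Z := isZero_zero _
  let z : M ⟶ Z := 0
  have hinj : Presheaf.IsLocallyInjective J z := by
    constructor
    intro U x y _
    intro s hs
    obtain ⟨V, hV, hsV⟩ := h𝒱.cov s
    refine ⟨V ⊓ U.unop, homOfLE inf_le_right, ?_, ⟨hsV, hs⟩⟩
    have hz : IsZero (M.obj (op (V ⊓ U.unop))) := hM _ (h𝒱.down V hV _ inf_le_left)
    have : Subsingleton (M.obj (op (V ⊓ U.unop))) :=
      AddCommGrpCat.subsingleton_of_isZero hz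
    exact Subsingleton.elim _ _
  have hsurj : Presheaf.IsLocallySurjective J z := by
    constructor
    intro U s
    have hz : IsZero (Z.obj (op U)) := hZ.obj _
    have : (Presheaf.imageSieve z s) = ⊤ := by
      ext V i
      simp only [Sieve.top_apply, iff_true]
      refine ⟨0, ?_⟩
      have hz' : IsZero (Z.obj (op V)) := hZ.obj _
      have : Subsingleton (Z.obj (op V)) := AddCommGrpCat.subsingleton_of_isZero hz'
      exact Subsingleton.elim _ _
    rw [this]
    exact J.top_mem _
  have hW : J.W z := (J.W_iff_isLocallyBijective z).2 ⟨hinj, hsurj⟩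
  have hiso : IsIso ((presheafToSheaf J AddCommGrpCat.{u}).map z) := (J.W_iff z).1 hW
  have hZ' : IsZero ((presheafToSheaf J AddCommGrpCat.{u}).obj Z) :=
    (presheafToSheaf J AddCommGrpCat.{u}).map_isZero hZ
  exact hZ'.of_iso (asIso ((presheafToSheaf J AddCommGrpCat.{u}).map z))

theorem exact_sheafify_of_locally_exact {𝒱 : Set (Opens S)} (h𝒱 : IsCovBase 𝒱)
    (T : ShortComplex ((Opens S)ᵒᵖ ⥤ AddCommGrpCat.{u}))
    (hT : ∀ V ∈ 𝒱, (T.map ((evaluation _ _).obj (op V))).Exact) :
    (T.map (presheafToSheaf (Opens.grothendieckTopology S) AddCommGrpCat.{u})).Exact := by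
  rw [ShortComplex.exact_iff_isZero_homology]
  refine IsZero.of_iso ?_ (T.mapHomologyIso _)
  apply isZero_sheafify_of_locally_zero h𝒱
  intro V hV
  have h1 := hT V hV
  rw [ShortComplex.exact_iff_isZero_homology] at h1
  exact IsZero.of_iso h1 (T.mapHomologyIso ((evaluation _ _).obj (op V))).symm

end Groth.Agent.Lib.Helper36.LH
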