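import Groth.Agent.Lib.Helper36.LH.CechT
import Groth.Agent.Lib.Helper36.LH.LocExact
import Groth.Agent.Lib.Helper36.LH.Adj
import Mathlib.Algebra.Homology.SingleHomology
import Mathlib.Algebra.Homology.QuasiIso

/-!
# The free resolution of the constant sheaf attached to a locally surjective presheaf of sets
(helper36)
-/

set_option autoImplicit false
universe u
open CategoryTheory CategoryTheory.Limits TopologicalSpace Opposite Simplicial

namespace Groth.Agent.Lib.Helper36.LH

variable {S : TopCat.{u}} (h : (Opens S)ᵒᵖ ⥤ Type u)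

/-- the Čech nerve of `h → pt` -/
def Nh : SimplicialObject ((Opens S)ᵒᵖ ⥤ Type u) := (h ⋙ cechTFunctor).flip

/-- free abelian presheaves -/
abbrev freeP (S : TopCat.{u}) :
    ((Opens S)ᵒᵖ ⥤ Type u) ⥤ ((Opens S)ᵒᵖ ⥤ AddCommGrpCat.{u}) :=
  (Functor.whiskeringRight _ _ _).obj AddCommGrpCat.free.{u}

/-- the simplicial presheaf of free abelian groups -/
def Apsh : SimplicialObject ((Opens S)ᵒᵖ ⥤ AddCommGrpCat.{u}) := Nh h ⋙ freeP S

/-- the presheaf level complex -/
noncomputable def Kpsh : ChainComplex ((Opens S)ᵒᵖ ⥤ AddCommGrpCat.{u}) ℕ :=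
  AlgebraicTopology.AlternatingFaceMapComplex.obj (Apsh h)

/-- the complex of free abelian sheaves -/
noncomputable def Pres : ChainComplex (CohTop.Ab S) ℕ :=
  ((presheafToSheaf (Opens.grothendieckTopology S) AddCommGrpCat.{u}).mapHomologicalComplex _).obj
    (Kpsh h)

lemma Pres_X (n : ℕ) : (Pres h).X n = (Lfun S).obj ((Nh h).obj (op ⦋n⦌)) := rfl

/-- evaluation -/
abbrev evV (V : Opens S) : ((Opens S)ᵒᵖ ⥤ AddCommGrpCat.{u}) ⥤ AddCommGrpCat.{u} :=
  (evaluation _ _).obj (op V)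

lemma Apsh_eval (V : Opens S) :
    ((SimplicialObject.whiskering _ _).obj (evV V)).obj (Apsh h) =
      SimplicialObject.Augmented.drop.obj
        (((SimplicialObject.Augmented.whiskering _ _).obj AddCommGrpCat.free.{u}).obj
          (cechTAug (h.obj (op V)))) := rfl

open AlgebraicTopology in
lemma exactAt_cech (T : Type u) (x₀ : T) (n : ℕ) :
    (AlternatingFaceMapComplex.obj (SimplicialObject.Augmented.drop.obj
      (((SimplicialObject.Augmented.whiskering _ _).obj AddCommGrpCat.free.{u}).obj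
        (cechTAug T)))).ExactAt (n + 1) := by
  let ed := (cechTExtra T x₀).map AddCommGrpCat.free.{u}
  have he := ed.homotopyEquiv
  rw [HomologicalComplex.exactAt_iff_isZero_homology]
  refine IsZero.of_iso ?_ (he.toHomologyIso (n + 1))
  rw [← HomologicalComplex.exactAt_iff_isZero_homology]
  exact ChainComplex.exactAt_succ_single_obj _ n

lemma Kpsh_eval_exactAt (V : Opens S) (x₀ : h.obj (op V)) (n : ℕ) :
    (((evV V).mapHomologicalComplex _).obj (Kpsh h)).ExactAt (n + 1) := by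
  have e := Functor.congr_obj (AlgebraicTopology.map_alternatingFaceMapComplex (evV V)) (Apsh h)
  change ((AlgebraicTopology.alternatingFaceMapComplex _ ⋙
    (evV V).mapHomologicalComplex _).obj (Apsh h)).ExactAt (n + 1)
  rw [e]
  exact exactAt_cech (h.obj (op V)) x₀ n

/-- the opens over which `h` has a section -/
def secOpens : Set (Opens S) := {V | Nonempty (h.obj (op V))}

lemma secOpens_down (V : Opens S) (hV : V ∈ secOpens h) (V' : Opens S) (hV' : V' ≤ V) :
    V' ∈ secOpens h := by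
  obtain ⟨x⟩ := hV
  exact ⟨h.map (homOfLE hV').op x⟩

theorem Pres_exactAt (hh : ∀ s : S, ∃ V ∈ secOpens h, s ∈ V) (n : ℕ) :
    (Pres h).ExactAt (n + 1) := by
  change (((Kpsh h).sc (n + 1)).map (presheafToSheaf _ _)).Exact
  apply exact_sheafify_of_locally_exact ⟨hh, secOpens_down h⟩
  rintro V ⟨x₀⟩
  exact Kpsh_eval_exactAt h V x₀ n

/-- the terminal presheaf of sets -/
def ptP (S : TopCat.{u}) : (Opens S)ᵒᵖ ⥤ Type u := (Functor.const _).obj PUnit

/-- the augmentation at the level of presheaves of sets -/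
def εset : (Nh h).obj (op ⦋0⦌) ⟶ ptP S where
  app V := TypeCat.ofHom (fun _ => PUnit.unit)

/-- the augmentation of the presheaf complex -/
def εpsh : (Apsh h).obj (op ⦋0⦌) ⟶ (freeP S).obj (ptP S) := (freeP S).map (εset h)

/-- the first differential -/
noncomputable def d10 : (Apsh h).obj (op ⦋0 + 1⦌) ⟶ (Apsh h).obj (op ⦋0⦌) := (Kpsh h).d 1 0

lemma d10_eq : d10 h = (Apsh h).δ 0 - (Apsh h).δ 1 := by
  have := AlgebraicTopology.AlternatingFaceMapComplex.obj_d_eq (Apsh h) 0
  refine this.trans ?_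
  rw [Fin.sum_univ_two]
  simp [sub_eq_add_neg]

lemma d_εpsh : d10 h ≫ εpsh h = 0 := by
  rw [d10_eq, Preadditive.sub_comp, sub_eq_zero]
  change (freeP S).map ((Nh h).δ 0) ≫ (freeP S).map (εset h) =
    (freeP S).map ((Nh h).δ 1) ≫ (freeP S).map (εset h)
  rw [← Functor.map_comp, ← Functor.map_comp]
  rfl

section Local

variable (V : Opens S) (x₀ : h.obj (op V))

/-- the extra degeneracy over an open where `h` has a section -/
noncomputable abbrev edV : SimplicialObject.Augmented.ExtraDegeneracy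
    (((SimplicialObject.Augmented.whiskering _ _).obj AddCommGrpCat.free.{u}).obj
      (cechTAug (h.obj (op V)))) :=
  (cechTExtra (h.obj (op V)) x₀).map AddCommGrpCat.free.{u}

/-- the extra degeneracy in degree `0` -/
noncomputable def s0 : ((Apsh h).obj (op ⦋0⦌)).obj (op V) ⟶ ((Apsh h).obj (op ⦋0 + 1⦌)).obj (op V) :=
  (edV h V x₀).s 0

/-- the section of the augmentation -/
noncomputable def sP : ((freeP S).obj (ptP S)).obj (op V) ⟶ ((Apsh h).obj (op ⦋0⦌)).obj (op V) :=
  (edV h V x₀).s'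

lemma edV_key :
    s0 h V x₀ ≫ (d10 h).app (op V) = 𝟙 _ - (εpsh h).app (op V) ≫ sP h V x₀ := by
  have h0 : s0 h V x₀ ≫ ((Apsh h).δ 0).app (op V) = 𝟙 _ := (edV h V x₀).s_comp_δ₀ 0
  have h1 : s0 h V x₀ ≫ ((Apsh h).δ 1).app (op V) =
      (εpsh h).app (op V) ≫ sP h V x₀ := (edV h V x₀).s₀_comp_δ₁
  rw [d10_eq, NatTrans.app_sub, Preadditive.comp_sub, h0, h1]

lemma edV_ε : sP h V x₀ ≫ (εpsh h).app (op V) = 𝟙 _ := (edV h V x₀).s'_comp_ε

end Local

/-- the augmentation of the complex of sheaves -/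
noncomputable def εsh : (Pres h).X 0 ⟶ (Lfun S).obj (ptP S) :=
  (presheafToSheaf (Opens.grothendieckTopology S) AddCommGrpCat.{u}).map (εpsh h)

lemma d_εsh : (Pres h).d 1 0 ≫ εsh h = 0 := by
  change (presheafToSheaf _ _).map (d10 h) ≫ (presheafToSheaf _ _).map (εpsh h) = 0
  rw [← Functor.map_comp, d_εpsh, Functor.map_zero]

theorem Pres_exact_zero (hh : ∀ s : S, ∃ V ∈ secOpens h, s ∈ V) :
    (ShortComplex.mk ((Pres h).d 1 0) (εsh h) (d_εsh h)).Exact := by
  change ((ShortComplex.mk (d10 h) (εpsh h) (d_εpsh h)).map (presheafToSheaf _ _)).Exact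
  apply exact_sheafify_of_locally_exact ⟨hh, secOpens_down h⟩
  rintro V ⟨x₀⟩
  rw [ShortComplex.ab_exact_iff]
  intro (x₂ : ((Apsh h).obj (op ⦋0⦌)).obj (op V)) hx₂
  refine ⟨s0 h V x₀ x₂, ?_⟩
  have := ConcreteCategory.congr_hom (edV_key h V x₀) x₂
  rw [ConcreteCategory.comp_apply] at this
  refine this.trans ?_
  change x₂ - sP h V x₀ ((εpsh h).app (op V) x₂) = x₂
  have hx : (εpsh h).app (op V) x₂ = 0 := hx₂
  rw [hx, map_zero, sub_zero]

theorem εsh_epi (hh : ∀ s : S, ∃ V ∈ secOpens h, s ∈ V) : Epi (εsh h) := by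
  let T : ShortComplex ((Opens S)ᵒᵖ ⥤ AddCommGrpCat.{u}) :=
    ShortComplex.mk (εpsh h) (0 : _ ⟶ (freeP S).obj (ptP S)) comp_zero
  have hT : (T.map (presheafToSheaf (Opens.grothendieckTopology S) AddCommGrpCat.{u})).Exact := by
    apply exact_sheafify_of_locally_exact ⟨hh, secOpens_down h⟩
    rintro V ⟨x₀⟩
    rw [ShortComplex.ab_exact_iff]
    intro (x₂ : ((freeP S).obj (ptP S)).obj (op V)) _
    refine ⟨sP h V x₀ x₂, ?_⟩
    have := ConcreteCategory.congr_hom (edV_ε h V x₀) x₂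
    rw [ConcreteCategory.comp_apply] at this
    exact this
  exact (ShortComplex.exact_iff_epi _ (by exact Functor.map_zero _ _ _)).1 hT

end Groth.Agent.Lib.Helper36.LH
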