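import Groth.Agent.Lib.Helper36.LH.HImg
import Mathlib.Topology.IsLocalHomeomorph
import Mathlib.Topology.Homeomorph.Lemmas

/-!
# Local homeomorphisms: continuous local sections (helper36)
-/

set_option autoImplicit false
universe u
open CategoryTheory CategoryTheory.Limits TopologicalSpace Opposite

namespace Groth.Agent.Lib.Helper36.LH

variable {Y S : TopCat.{u}} {g : Y ⟶ S}

lemma exists_bopens (hlh : IsLocalHomeomorph g) (W : Opens Y) (y : Y) (hy : y ∈ W) :
    ∃ W₁ : BOpens g W, y ∈ W₁.U := by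
  obtain ⟨e, hye, hge⟩ := hlh y
  refine ⟨⟨W ⊓ ⟨e.source, e.open_source⟩, inf_le_left, ?_⟩, ⟨hy, hye⟩⟩
  intro a ha b hb hab
  rw [hge] at hab
  exact e.injOn ha.2 hb.2 hab

/-- the presheaf of continuous local sections of `g` -/
def hCont (g : Y ⟶ S) : (Opens S)ᵒᵖ ⥤ Type u where
  obj V := {σ : (Opens.toTopCat S).obj V.unop ⟶ Y // σ ≫ g = V.unop.inclusion'}
  map {V V'} i := TypeCat.ofHom fun σ =>
    ⟨(Opens.toTopCat S).map i.unop ≫ σ.1, by rw [Category.assoc, σ.2]; rfl⟩
  map_id V := by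
    ext σ x
    rfl
  map_comp i j := by
    ext σ x
    rfl

lemma hCont_apply {V : (Opens S)ᵒᵖ} (σ : (hCont g).obj V) (v : V.unop) : g (σ.1 v) = v.1 :=
  ConcreteCategory.congr_hom σ.2 v

variable (hg : IsOpenMap g)

/-- a continuous section with prescribed image -/
theorem exists_section (W₁ : Opens Y) (hinj : Set.InjOn g W₁) :
    ∃ σ : (hCont g).obj (op (hg.functor.obj W₁)), Set.range σ.1 = (W₁ : Set Y) := by
  have hemb := isOpenEmbedding_restrict hg W₁ hinj
  let e := hemb.isEmbedding.toHomeomorph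
  have hmem : ∀ v : hg.functor.obj W₁, v.1 ∈ Set.range (kg g W₁) := by
    rintro ⟨_, ⟨y, hy, rfl⟩⟩
    exact ⟨⟨y, hy⟩, rfl⟩
  let τ : C(hg.functor.obj W₁, Y) :=
    ⟨fun v => (e.symm ⟨v.1, hmem v⟩).1,
      continuous_subtype_val.comp (e.symm.continuous.comp
        (Continuous.subtype_mk continuous_subtype_val hmem))⟩
  have hτ : ∀ v : hg.functor.obj W₁, g (τ v) = v.1 := by
    intro v
    have := e.apply_symm_apply ⟨v.1, hmem v⟩
    exact congrArg Subtype.val this
  refine ⟨⟨TopCat.ofHom τ, ?_⟩, ?_⟩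
  · ext v
    exact hτ v
  · ext y
    constructor
    · rintro ⟨v, rfl⟩
      exact (e.symm ⟨v.1, hmem v⟩).2
    · intro hy
      refine ⟨⟨g y, ⟨y, hy, rfl⟩⟩, ?_⟩
      have : e.symm ⟨g y, hmem ⟨g y, ⟨y, hy, rfl⟩⟩⟩ = ⟨y, hy⟩ := by
        rw [Homeomorph.symm_apply_eq]
        rfl
      exact congrArg Subtype.val this

section Iso

variable (hlh : IsLocalHomeomorph g)

include hlh in
lemma isOpen_range_section {V : (Opens S)ᵒᵖ} (σ : (hCont g).obj V) : IsOpen (Set.range σ.1) := by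
  have h1 : Topology.IsOpenEmbedding (g ∘ σ.1) := by
    have h0 : Topology.IsOpenEmbedding
        (Subtype.val : ((Opens.toTopCat S).obj V.unop : Type u) → S) :=
      V.unop.2.isOpenEmbedding_subtypeVal
    have e : (g ∘ σ.1 : ((Opens.toTopCat S).obj V.unop : Type u) → S) = Subtype.val := by
      funext v
      exact hCont_apply σ v
    exact e.symm ▸ h0
  exact (hlh.isOpenEmbedding_of_comp h1 σ.1.hom.continuous).isOpen_range

/-- the image of a section, as an element of `hImg` -/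
def toImgApp (V : (Opens S)ᵒᵖ) (σ : (hCont g).obj V) : (hImg hg ⊤).obj V :=
  ⟨⟨⟨Set.range σ.1, isOpen_range_section hlh σ⟩, le_top, by
    rintro _ ⟨v, rfl⟩ _ ⟨v', rfl⟩ hvv'
    rw [hCont_apply, hCont_apply] at hvv'
    rw [Subtype.ext hvv']⟩, by
    apply Opens.ext
    ext s
    constructor
    · rintro ⟨_, ⟨v, rfl⟩, rfl⟩
      rw [hCont_apply]
      exact v.2
    · intro hs
      exact ⟨σ.1 ⟨s, hs⟩, ⟨⟨s, hs⟩, rfl⟩, hCont_apply σ ⟨s, hs⟩⟩⟩

lemma toImgApp_injective (V : (Opens S)ᵒᵖ) : Function.Injective (toImgApp hg hlh V) := by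
  intro σ σ' h
  have hr : Set.range σ.1 = Set.range σ'.1 := congrArg (fun t => (t.1.U : Set Y)) h
  apply Subtype.ext
  ext v
  have h1 : σ.1 v ∈ Set.range σ'.1 := hr ▸ ⟨v, rfl⟩
  obtain ⟨v', hv'⟩ := h1
  have h2 : v' = v := by
    apply Subtype.ext
    rw [← hCont_apply σ' v', hv', hCont_apply]
  rw [← hv', h2]

lemma toImgApp_surjective (V : (Opens S)ᵒᵖ) : Function.Surjective (toImgApp hg hlh V) := by
  rintro ⟨W₁, e⟩
  induction V using Opposite.rec with
  | _ V =>
    change hg.functor.obj W₁.U = V at e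
    subst e
    obtain ⟨σ, hσ⟩ := exists_section hg W₁.U W₁.inj
    refine ⟨σ, ?_⟩
    apply Subtype.ext
    apply BOpens.ext'
    apply Opens.ext
    exact hσ

/-- continuous sections are the same as their images -/
noncomputable def hContIso : hCont g ≅ hImg hg ⊤ :=
  NatIso.ofComponents (fun V => (Equiv.ofBijective (toImgApp hg hlh V)
    ⟨toImgApp_injective hg hlh V, toImgApp_surjective hg hlh V⟩).toIso) (by
    intro V V' i
    ext σ
    apply Subtype.ext
    apply BOpens.ext'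
    apply Opens.ext
    ext y
    constructor
    · rintro ⟨v', rfl⟩
      refine ⟨⟨(Opens.toTopCat S).map i.unop v', rfl⟩, ?_⟩
      change g (σ.1 ((Opens.toTopCat S).map i.unop v')) ∈ V'.unop
      rw [hCont_apply]
      exact v'.2
    · rintro ⟨⟨v, rfl⟩, hv⟩
      have hv' : v.1 ∈ V'.unop := by
        have : g (σ.1 v) ∈ V'.unop := hv
        rwa [hCont_apply] at this
      exact ⟨⟨v.1, hv'⟩, rfl⟩)

end Iso

end Groth.Agent.Lib.Helper36.LH
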