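import Groth.Agent.Lib.Helper36.LH.Top
import Groth.Agent.Lib.Helper36.LH.Resol
import Mathlib.CategoryTheory.Limits.Shapes.WidePullbacks
import Mathlib.Topology.Category.TopCat.Limits.Basic

/-!
# Fibre powers of a local homeomorphism (helper36)
-/

set_option autoImplicit false
universe u
open CategoryTheory CategoryTheory.Limits TopologicalSpace Opposite Simplicial

namespace Groth.Agent.Lib.Helper36.LH

variable {X S : TopCat.{u}} (f : X ⟶ S) (p : ℕ)

/-- the fibre power -/
noncomputable abbrev Xp : TopCat.{u} := widePullback S (fun _ : Fin (p + 1) => X) (fun _ => f)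

/-- its structure map -/
noncomputable abbrev bp : Xp f p ⟶ S := WidePullback.base (fun _ : Fin (p + 1) => f)

/-- its projections -/
noncomputable abbrev prp (i : Fin (p + 1)) : Xp f p ⟶ X := WidePullback.π (fun _ : Fin (p + 1) => f) i

/-- sections of the fibre power are tuples of sections -/
noncomputable def hContWP : hCont (bp f p) ≅ (Nh (hCont f)).obj (op ⦋p⦌) :=
  NatIso.ofComponents (fun V => Equiv.toIso
    { toFun := fun σ (i : Fin (p + 1)) => (⟨σ.1 ≫ prp f p i, by
        rw [Category.assoc, WidePullback.π_arrow, σ.2]⟩ : (hCont f).obj V)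
      invFun := fun (τ : Fin (p + 1) → (hCont f).obj V) =>
        ⟨WidePullback.lift V.unop.inclusion' (fun i => (τ i).1) (fun i => (τ i).2),
          WidePullback.lift_base _ _ _ _⟩
      left_inv := by
        intro σ
        apply Subtype.ext
        apply WidePullback.hom_ext (fun _ : Fin (p + 1) => f)
        · intro i
          exact WidePullback.lift_π _ _ _ _ i
        · exact (WidePullback.lift_base _ _ _ _).trans σ.2.symm
      right_inv := by
        intro τ
        funext i
        apply Subtype.ext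
        exact WidePullback.lift_π _ _ _ _ i }) (by
    intro V V' i
    ext σ
    funext j
    apply Subtype.ext
    exact Category.assoc ((Opens.toTopCat S).map i.unop) σ.1 (prp f p j))

lemma hContWP_inv_π {V : (Opens S)ᵒᵖ} (τ : Fin (p + 1) → (hCont f).obj V) (i : Fin (p + 1)) :
    ((hContWP f p).inv.app V τ).1 ≫ prp f p i = (τ i).1 :=
  WidePullback.lift_π _ _ _ _ i

lemma bp_apply (z : Xp f p) (i : Fin (p + 1)) : f (prp f p i z) = bp f p z :=
  ConcreteCategory.congr_hom (WidePullback.π_arrow (fun _ : Fin (p + 1) => f) i) z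

/-- points of the fibre power are determined by their projections -/
lemma pt_ext (z z' : Xp f p) (h : ∀ i, prp f p i z = prp f p i z') (hb : bp f p z = bp f p z') :
    z = z' := by
  let c : Xp f p → (TopCat.of PUnit.{u + 1} ⟶ Xp f p) := fun z =>
    TopCat.ofHom (ContinuousMap.const _ z)
  have : c z = c z' := by
    apply WidePullback.hom_ext (fun _ : Fin (p + 1) => f)
    · intro i
      ext
      exact h i
    · ext
      exact hb
  exact ConcreteCategory.congr_hom this PUnit.unit

theorem isLocalHomeomorph_bp (hf : IsLocalHomeomorph f) : IsLocalHomeomorph (bp f p) := by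
  rw [isLocalHomeomorph_iff_isOpenEmbedding_restrict]
  intro x
  have hfo : IsOpenMap f := hf.isOpenMap
  choose W hW using fun i => exists_bopens hf ⊤ (prp f p i x) trivial
  let V : Opens S := ⨅ i, hfo.functor.obj (W i).U
  have hVi : ∀ i, V ≤ hfo.functor.obj (W i).U := fun i => iInf_le _ i
  have hmemV : ∀ s : S, s ∈ V ↔ ∀ i, s ∈ hfo.functor.obj (W i).U := by
    intro s
    rw [← SetLike.mem_coe, Opens.coe_iInf]
    simp only [Set.mem_iInter, SetLike.mem_coe]
  choose σ hσ using fun i => exists_section hfo (W i).U (W i).inj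
  let τ₀ : Fin (p + 1) → (hCont f).obj (op V) := fun i => (hCont f).map (homOfLE (hVi i)).op (σ i)
  let τ : (hCont (bp f p)).obj (op V) := (hContWP f p).inv.app (op V) τ₀
  have hτπ : ∀ (i : Fin (p + 1)) (v : V), prp f p i (τ.1 v) = (σ i).1 ⟨v.1, hVi i v.2⟩ := by
    intro i v
    exact ConcreteCategory.congr_hom (hContWP_inv_π f p τ₀ i) v
  let U : Set (Xp f p) := {z | bp f p z ∈ V ∧ ∀ i, prp f p i z ∈ (W i).U}
  have hUo : IsOpen U := by
    have h1 : IsOpen {z : Xp f p | bp f p z ∈ V} := V.2.preimage (bp f p).hom.continuous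
    have h2 : IsOpen {z : Xp f p | ∀ i, prp f p i z ∈ (W i).U} := by
      have : {z : Xp f p | ∀ i, prp f p i z ∈ (W i).U} =
          ⋂ i, (prp f p i) ⁻¹' ((W i).U : Set X) := by
        ext z
        simp
      rw [this]
      exact isOpen_iInter_of_finite fun i => (W i).U.2.preimage (prp f p i).hom.continuous
    exact h1.inter h2
  have hxU : x ∈ U := by
    refine ⟨(hmemV _).2 fun i => ⟨prp f p i x, hW i, bp_apply f p x i⟩, hW⟩
  have hτU : ∀ z (hz : z ∈ U), τ.1 ⟨bp f p z, hz.1⟩ = z := by
    intro z hz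
    apply pt_ext
    · intro i
      rw [hτπ]
      have h1 : prp f p i z ∈ Set.range (σ i).1 := by
        rw [hσ i]
        exact hz.2 i
      obtain ⟨v', hv'⟩ := h1
      have h2 : v' = ⟨bp f p z, hVi i hz.1⟩ := by
        apply Subtype.ext
        rw [← hCont_apply (σ i) v', hv']
        exact bp_apply f p z i
      rw [← hv', h2]
    · exact hCont_apply τ ⟨bp f p z, hz.1⟩
  refine ⟨U, hUo.mem_nhds hxU, ?_⟩
  refine Topology.IsOpenEmbedding.of_continuous_injective_isOpenMap
    ((bp f p).hom.continuous.comp continuous_subtype_val) ?_ ?_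
  · rintro ⟨a, ha⟩ ⟨b, hb⟩ hab
    have hab' : bp f p a = bp f p b := hab
    apply Subtype.ext
    change a = b
    rw [← hτU a ha, ← hτU b hb]
    congr 1
    exact Subtype.ext hab'
  · intro O hO
    obtain ⟨O', hO', rfl⟩ := isOpen_induced_iff.1 hO
    have : (U.domRestrict (bp f p)) '' (Subtype.val ⁻¹' O') =
        Subtype.val '' (τ.1 ⁻¹' (O' ∩ U) : Set V) := by
      ext s
      constructor
      · rintro ⟨⟨z, hz⟩, hzO, rfl⟩
        refine ⟨⟨bp f p z, hz.1⟩, ?_, rfl⟩
        change τ.1 ⟨bp f p z, hz.1⟩ ∈ O' ∩ U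
        rw [hτU z hz]
        exact ⟨hzO, hz⟩
      · rintro ⟨v, ⟨hvO, hvU⟩, rfl⟩
        refine ⟨⟨τ.1 v, hvU⟩, hvO, ?_⟩
        exact hCont_apply τ v
    rw [this]
    exact V.2.isOpenMap_subtype_val _ ((hO'.inter hUo).preimage τ.1.hom.continuous)

lemma exists_secOpens (hf : IsLocalHomeomorph f) (hsurj : Function.Surjective f) (s : S) :
    ∃ V ∈ secOpens (hCont f), s ∈ V := by
  obtain ⟨x, rfl⟩ := hsurj s
  obtain ⟨W, hW⟩ := exists_bopens hf ⊤ x trivial
  obtain ⟨σ, -⟩ := exists_section hf.isOpenMap W.U W.inj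
  exact ⟨hf.isOpenMap.functor.obj W.U, ⟨σ⟩, ⟨x, hW, rfl⟩⟩

/-- the free abelian sheaf on the terminal presheaf is the constant sheaf `ℤ` -/
noncomputable def LptIso (S : TopCat.{u}) : (Lfun S).obj (ptP S) ≅
    (constantSheaf (Opens.grothendieckTopology S) AddCommGrpCat.{u}).obj
      (AddCommGrpCat.of (ULift ℤ)) :=
  (presheafToSheaf (Opens.grothendieckTopology S) AddCommGrpCat.{u}).mapIso
    (Functor.constComp _ PUnit.{u + 1} AddCommGrpCat.free.{u} ≪≫
      (Functor.const _).mapIso
        ((FreeAbelianGroup.uniqueEquiv PUnit.{u + 1}).trans AddEquiv.ulift.symm).toAddCommGrpIso)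

end Groth.Agent.Lib.Helper36.LH
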